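import Cfsg.Agent.H329.LB.XCls
import Cfsg.Agent.H348.LB.XAsm

/-!
# The three actions of `W(E₈)` on 2240 points (helper329, for S4879): the structure `XT` of helper348 from the orbit data
-/

set_option autoImplicit false
set_option linter.unusedSectionVars false
set_option maxRecDepth 20000

namespace Cfsg.Agent.H329.LB.X

open Cfsg CoxeterSystem Cfsg.Agent.H967.Sph Cfsg.Agent.ChevalleyStructure.CoxeterGeom Cfsg.Agent.Tits.Roots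
  Cfsg.Agent.Tits.Core Cfsg.Agent.Tits.Exchange
open Cfsg.Agent.H996.Eight.Cert Cfsg.Agent.H996.Eight.En Cfsg.Agent.H996.PQ.Big Cfsg.Agent.H348.LB.Ev
  Cfsg.Agent.H329.LB.TabE8d Cfsg.Agent.H348.LB Cfsg.Agent.H996.PQ Cfsg.Agent.H416.LB.X
open Cfsg.Agent.H656.LB (JB JS)
open Cfsg.Agent.H348.LB.X (XT OH JE)

section

variable {W : Type*} [Group W] {M : CoxeterMatrix (Fin 8)} (cs : CoxeterSystem M W) (hC : IsCartan M TabE8c.A)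

/-- words of the classes -/
def iw1 : List (List (Fin 8)) := [[], [6], [6, 5, 7, 6], [6, 5, 4, 3, 1, 2, 3, 4, 5, 6], [6, 5, 4, 3, 1, 2, 3, 4, 5, 7, 6], [6, 5, 4, 3, 1, 2, 0, 3, 2, 4, 3, 5, 4, 6, 5, 7, 6], [6, 5, 4, 3, 1, 2, 0, 3, 2, 4, 3, 1, 5, 4, 3, 2, 0, 6, 5, 4, 3, 1, 2, 3, 4, 5, 6], [6, 5, 4, 3, 1, 2, 0, 3, 2, 7, 6, 5, 4, 3, 1, 2, 0, 3, 2, 4, 3, 5, 4, 6, 5, 7, 6]]

theorem iw1_ok : ∀ c : Fin 8, clN C1 (zw S1 ((iw1.getD c []).map fun i : Fin 8 => (i : ℕ)) 0) = c ∧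
    clN C1 (zw S1 ((iw1.getD c []).reverse.map fun i : Fin 8 => (i : ℕ)) 0) = c := by decide +kernel

theorem cls_zz1 (ω : List (Fin 8)) : ((cls1 cs hC).cls (H116.LB.KG.zz (act1 cs hC) ω (act1 cs hC).o) : ℕ) =
    clN C1 (zw S1 (ω.map fun i : Fin 8 => (i : ℕ)) 0) := by
  rw [cls1_val]
  exact congrArg (clN C1) (zz_val cs hC cp1 inv1 h01 ds1 ω 0)

theorem w1a : clN C1 (zw S1 (([6] : List (Fin 8)).map fun i : Fin 8 => (i : ℕ)) 0) = ((1 : Fin 8) : ℕ) := by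
  decide +kernel

theorem w1b : clN C1 (zw S1 (([6, 5, 7, 6] : List (Fin 8)).map fun i : Fin 8 => (i : ℕ)) 0) = ((2 : Fin 8) : ℕ) := by
  decide +kernel

theorem w1c : clN C1 ((0 : Fin 2240) : ℕ) = ((0 : Fin 8) : ℕ) := by decide +kernel

/-- **The table `N1`.** -/
theorem xt1 (he : ∀ j, OH (act1 cs hC) (cls1 cs hC) (JE j) 1 (HEN1 j))
    (hb : ∀ j, OH (act1 cs hC) (cls1 cs hC) (JB j) 1 (HBN1 j))
    (hb0 : ∀ j, OH (act1 cs hC) (cls1 cs hC) (JB j) (-1) 0)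
    (hs : ∀ j, OH (act1 cs hC) (cls1 cs hC) (JS j) (-1) (HSN1 j)) :
    XT (act1 cs hC) (cls1 cs hC) 0 1 2 szN1 KN11 KN12 HEN1 HBN1 HSN1 where
  o := by
    apply Fin.ext
    rw [cls1_val, act1_o]
    exact w1c
  w1 := Fin.ext ((cls_zz1 cs hC _).trans w1a)
  w2 := Fin.ext ((cls_zz1 cs hC _).trans w1b)
  k1 := card_Ka1 cs hC
  k2 := card_Kb1 cs hC
  sz := sz1 cs hC
  inv c := ⟨iw1.getD c [], Fin.ext ((cls_zz1 cs hC _).trans (iw1_ok c).1), Fin.ext ((cls_zz1 cs hC _).trans (iw1_ok c).2)⟩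
  e := he
  b := hb
  b0 := hb0
  s := hs

/-- words of the classes -/
def iw0 : List (List (Fin 8)) := [[], [6], [7], [6, 7], [6, 5, 7, 6], [6, 5, 4, 3, 1, 2, 3, 4, 5, 7, 6], [6, 5, 4, 3, 1, 2, 3, 4, 5, 6, 7, 6], [6, 5, 4, 3, 1, 2, 0, 3, 2, 7, 6, 5, 4, 3, 1, 2, 0, 3, 2, 4, 3, 5, 4, 6, 5, 7, 6]]

theorem iw0_ok : ∀ c : Fin 8, clN C0 (zw S0 ((iw0.getD c []).map fun i : Fin 8 => (i : ℕ)) 0) = c ∧
    clN C0 (zw S0 ((iw0.getD c []).reverse.map fun i : Fin 8 => (i : ℕ)) 0) = c := by decide +kernel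

theorem cls_zz0 (ω : List (Fin 8)) : ((cls0 cs hC).cls (H116.LB.KG.zz (act0 cs hC) ω (act0 cs hC).o) : ℕ) =
    clN C0 (zw S0 (ω.map fun i : Fin 8 => (i : ℕ)) 0) := by
  rw [cls0_val]
  exact congrArg (clN C0) (zz_val cs hC cp0 inv0 h00 ds0 ω 0)

theorem w0a : clN C0 (zw S0 (([6] : List (Fin 8)).map fun i : Fin 8 => (i : ℕ)) 0) = ((1 : Fin 8) : ℕ) := by
  decide +kernel

theorem w0b : clN C0 (zw S0 (([6, 5, 7, 6] : List (Fin 8)).map fun i : Fin 8 => (i : ℕ)) 0) = ((4 : Fin 8) : ℕ) := by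
  decide +kernel

theorem w0c : clN C0 ((0 : Fin 2240) : ℕ) = ((0 : Fin 8) : ℕ) := by decide +kernel

/-- **The table `N0`.** -/
theorem xt0 (he : ∀ j, OH (act0 cs hC) (cls0 cs hC) (JE j) 1 (HEN0 j))
    (hb : ∀ j, OH (act0 cs hC) (cls0 cs hC) (JB j) 1 (HBN0 j))
    (hb0 : ∀ j, OH (act0 cs hC) (cls0 cs hC) (JB j) (-1) 0)
    (hs : ∀ j, OH (act0 cs hC) (cls0 cs hC) (JS j) (-1) (HSN0 j)) :
    XT (act0 cs hC) (cls0 cs hC) 0 1 4 szN0 KN01 KN02 HEN0 HBN0 HSN0 where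
  o := by
    apply Fin.ext
    rw [cls0_val, act0_o]
    exact w0c
  w1 := Fin.ext ((cls_zz0 cs hC _).trans w0a)
  w2 := Fin.ext ((cls_zz0 cs hC _).trans w0b)
  k1 := card_Ka0 cs hC
  k2 := card_Kb0 cs hC
  sz := sz0 cs hC
  inv c := ⟨iw0.getD c [], Fin.ext ((cls_zz0 cs hC _).trans (iw0_ok c).1), Fin.ext ((cls_zz0 cs hC _).trans (iw0_ok c).2)⟩
  e := he
  b := hb
  b0 := hb0
  s := hs

/-- words of the classes -/
def iw2 : List (List (Fin 8)) := [[], [6], [7], [6, 7], [6, 5, 7, 6], [6, 5, 4, 3, 1, 2, 3, 4, 5, 7, 6], [6, 5, 4, 3, 1, 2, 0, 3, 2, 7, 6, 5, 4, 3, 1, 2, 0, 3, 2, 4, 3, 5, 4, 6, 5, 7, 6]]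

theorem iw2_ok : ∀ c : Fin 7, clN C2 (zw S2 ((iw2.getD c []).map fun i : Fin 8 => (i : ℕ)) 0) = c ∧
    clN C2 (zw S2 ((iw2.getD c []).reverse.map fun i : Fin 8 => (i : ℕ)) 0) = c := by decide +kernel

theorem cls_zz2 (ω : List (Fin 8)) : ((cls2 cs hC).cls (H116.LB.KG.zz (act2 cs hC) ω (act2 cs hC).o) : ℕ) =
    clN C2 (zw S2 (ω.map fun i : Fin 8 => (i : ℕ)) 0) := by
  rw [cls2_val]
  exact congrArg (clN C2) (zz_val cs hC cp2 inv2 h02 ds2 ω 0)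

theorem w2a : clN C2 (zw S2 (([6] : List (Fin 8)).map fun i : Fin 8 => (i : ℕ)) 0) = ((1 : Fin 7) : ℕ) := by
  decide +kernel

theorem w2b : clN C2 (zw S2 (([6, 5, 7, 6] : List (Fin 8)).map fun i : Fin 8 => (i : ℕ)) 0) = ((4 : Fin 7) : ℕ) := by
  decide +kernel

theorem w2c : clN C2 ((0 : Fin 2240) : ℕ) = ((0 : Fin 7) : ℕ) := by decide +kernel

/-- **The table `N2`.** -/
theorem xt2 (he : ∀ j, OH (act2 cs hC) (cls2 cs hC) (JE j) 1 (HEN2 j))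
    (hb : ∀ j, OH (act2 cs hC) (cls2 cs hC) (JB j) 1 (HBN2 j))
    (hb0 : ∀ j, OH (act2 cs hC) (cls2 cs hC) (JB j) (-1) 0)
    (hs : ∀ j, OH (act2 cs hC) (cls2 cs hC) (JS j) (-1) (HSN2 j)) :
    XT (act2 cs hC) (cls2 cs hC) 0 1 4 szN2 KN21 KN22 HEN2 HBN2 HSN2 where
  o := by
    apply Fin.ext
    rw [cls2_val, act2_o]
    exact w2c
  w1 := Fin.ext ((cls_zz2 cs hC _).trans w2a)
  w2 := Fin.ext ((cls_zz2 cs hC _).trans w2b)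
  k1 := card_Ka2 cs hC
  k2 := card_Kb2 cs hC
  sz := sz2 cs hC
  inv c := ⟨iw2.getD c [], Fin.ext ((cls_zz2 cs hC _).trans (iw2_ok c).1), Fin.ext ((cls_zz2 cs hC _).trans (iw2_ok c).2)⟩
  e := he
  b := hb
  b0 := hb0
  s := hs

end

end Cfsg.Agent.H329.LB.X
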